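import Cfsg.Agent.Lib.Helper17.ReeOut.Defs

set_option autoImplicit false

/-!
# ReeOut (S2127), packages [RIG1b] and [RIG1] (helper1, second seat)
-/

universe u

namespace Cfsg.Agent.Lib.Helper1.ReeOut

open Cfsg.Agent.Lib.Helper17.ReeOut

/-- (RIG1b), without finiteness: an element stabilising `U` and `n U n⁻¹` lies in `H`. -/
theorem rig1b_core {G : Type u} [Group G] (U H : Subgroup G) (n : G) (hB : BNData U H n)
    (g : G) (h1 : ∀ x ∈ U, g * x * g⁻¹ ∈ U)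
    (h2 : ∀ x ∈ U, ∃ y ∈ U, g * (n * x * n⁻¹) * g⁻¹ = n * y * n⁻¹) : g ∈ H := by
  obtain ⟨u0, hu0, hu0ne⟩ := hB.ne
  have hninv : n⁻¹ = n := inv_eq_of_mul_eq_one_left hB.nsq
  obtain ⟨v, hv, h, hh, hg⟩ := hB.ti g u0 hu0 hu0ne (h1 u0 hu0)
  obtain ⟨y, hy, hy2⟩ := h2 u0 hu0
  have h3 : (n⁻¹ * g * n) * u0 * (n⁻¹ * g * n)⁻¹ ∈ U := by
    have e : (n⁻¹ * g * n) * u0 * (n⁻¹ * g * n)⁻¹ = n⁻¹ * (g * (n * u0 * n⁻¹) * g⁻¹) * n := by
      group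
    rw [e, hy2]
    have e2 : n⁻¹ * (n * y * n⁻¹) * n = y := by group
    rw [e2]; exact hy
  obtain ⟨v', hv', h', hh', hg'⟩ := hB.ti (n⁻¹ * g * n) u0 hu0 hu0ne h3
  have h4 : n⁻¹ * v * n = v' * (h' * (n⁻¹ * h⁻¹ * n)) := by
    have e : n⁻¹ * v * n = (n⁻¹ * (v * h) * n) * (n⁻¹ * h⁻¹ * n) := by group
    rw [e, ← hg, hg', mul_assoc]
  have h5 : n * v * n⁻¹ = v' * (h' * (n * h⁻¹ * n⁻¹)) := by
    have h4' := h4
    rw [hninv] at h4'
    rw [hninv]; exact h4'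
  have hv1 : v = 1 :=
    hB.hV v hv v' hv' _ (H.mul_mem hh' (hB.nH _ (H.inv_mem hh))) h5
  rw [hg, hv1, one_mul]; exact hh

theorem pkgRig1b : PkgRig1b.{u} := by
  intro G _ _ U H n hB g h1 h2
  exact rig1b_core U H n hB g h1 h2

theorem pkgRig1 : PkgRig1.{u} := by
  intro G _ _ U H n hB φ hφU
  obtain ⟨u0, hu0, hu0ne⟩ := hB.ne
  have hninv : n⁻¹ = n := inv_eq_of_mul_eq_one_left hB.nsq
  -- `φ n` is not in `U H`
  have hnot : ¬ ∃ u ∈ U, ∃ h ∈ H, φ n = u * h := by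
    rintro ⟨u, hu, h, hh, e⟩
    have h1 : φ (n * u0 * n⁻¹) ∈ U := by
      rw [map_mul, map_mul, map_inv, e]
      have e2 : u * h * φ u0 * (u * h)⁻¹ = u * (h * φ u0 * h⁻¹) * u⁻¹ := by group
      rw [e2]
      exact U.mul_mem (U.mul_mem hu (hB.hU h hh _ ((hφU u0).1 hu0))) (U.inv_mem hu)
    have h2 : n * u0 * n⁻¹ ∈ U := (hφU _).2 h1
    have h3 : u0 = 1 := hB.hV u0 hu0 (n * u0 * n⁻¹) h2 1 H.one_mem (by rw [mul_one])
    exact hu0ne h3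
  obtain ⟨u', hu', h, hh, u, hu, e⟩ := (hB.cells (φ n)).resolve_left hnot
  have hbU : ∀ y, y ∈ U ↔ (u' * h)⁻¹ * y * ((u' * h)⁻¹)⁻¹ ∈ U := by
    intro y
    constructor
    · intro hy
      have e2 : (u' * h)⁻¹ * y * ((u' * h)⁻¹)⁻¹ = h⁻¹ * (u'⁻¹ * y * u') * (h⁻¹)⁻¹ := by group
      rw [e2]
      exact hB.hU _ (H.inv_mem hh) _ (U.mul_mem (U.mul_mem (U.inv_mem hu') hy) hu')
    · intro hy
      have e2 : y = u' * (h * ((u' * h)⁻¹ * y * ((u' * h)⁻¹)⁻¹) * h⁻¹) * u'⁻¹ := by group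
      rw [e2]
      exact U.mul_mem (U.mul_mem hu' (hB.hU h hh _ hy)) (U.inv_mem hu')
  have hψ : ∀ x, (MulAut.conj (u' * h)⁻¹ * φ) x
      = (u' * h)⁻¹ * φ x * ((u' * h)⁻¹)⁻¹ := by
    intro x
    rw [MulAut.mul_apply, MulAut.conj_apply]
  have key1 : ∀ x, x ∈ U ↔ (MulAut.conj (u' * h)⁻¹ * φ) x ∈ U := by
    intro x
    rw [hψ, ← hbU]
    exact hφU x
  have hbg : (u' * h)⁻¹ * φ n = n * u := by
    rw [e]; group
  have key3 : ∀ x, (MulAut.conj (u' * h)⁻¹ * φ) (n * x * n⁻¹)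
      = n * (u * φ x * u⁻¹) * n⁻¹ := by
    intro x
    rw [hψ, map_mul, map_mul, map_inv]
    have e2 : (u' * h)⁻¹ * (φ n * φ x * (φ n)⁻¹) * ((u' * h)⁻¹)⁻¹
        = ((u' * h)⁻¹ * φ n) * φ x * ((u' * h)⁻¹ * φ n)⁻¹ := by group
    rw [e2, hbg]; group
  refine ⟨(u' * h)⁻¹, ?_⟩
  generalize MulAut.conj (u' * h)⁻¹ * φ = ψ at hψ key1 key3 ⊢
  -- `ψ` maps `H` into `H`
  have hfwd : ∀ x ∈ H, ψ x ∈ H := by
    intro x hx
    apply rig1b_core U H n hB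
    · intro y hy
      have hy0 : MulEquiv.symm ψ y ∈ U := by
        rw [key1, MulEquiv.apply_symm_apply]; exact hy
      have e2 : ψ x * y * (ψ x)⁻¹ = ψ (x * MulEquiv.symm ψ y * x⁻¹) := by
        rw [map_mul, map_mul, map_inv, MulEquiv.apply_symm_apply]
      rw [e2, ← key1]
      exact hB.hU x hx _ hy0
    · intro y hy
      -- `y0` with `ψ (n y0 n⁻¹) = n y n⁻¹`
      have hy0 : MulEquiv.symm φ (u⁻¹ * y * u) ∈ U := by
        rw [hφU, MulEquiv.apply_symm_apply]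
        exact U.mul_mem (U.mul_mem (U.inv_mem hu) hy) hu
      have e3 : ψ (n * MulEquiv.symm φ (u⁻¹ * y * u) * n⁻¹) = n * y * n⁻¹ := by
        rw [key3, MulEquiv.apply_symm_apply]; group
      have hxn : n⁻¹ * x * n ∈ H := by
        have := hB.nH x hx
        rw [hninv] at this
        rw [hninv]; exact this
      have hy1 : (n⁻¹ * x * n) * MulEquiv.symm φ (u⁻¹ * y * u) * (n⁻¹ * x * n)⁻¹ ∈ U :=
        hB.hU _ hxn _ hy0
      refine ⟨u * φ ((n⁻¹ * x * n) * MulEquiv.symm φ (u⁻¹ * y * u) * (n⁻¹ * x * n)⁻¹) * u⁻¹,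
        U.mul_mem (U.mul_mem hu ((hφU _).1 hy1)) (U.inv_mem hu), ?_⟩
      rw [← key3, ← e3, ← map_inv, ← map_mul, ← map_mul]
      congr 1
      group
  have hconv : ∀ x, ψ x ∈ H → x ∈ H := by
    intro x hx
    let F : H → H := fun z => ⟨ψ z, hfwd z z.2⟩
    have hinj : Function.Injective F := by
      intro a c hac
      have h1 : ψ (a : G) = ψ (c : G) := congrArg Subtype.val hac
      exact Subtype.ext (ψ.injective h1)
    obtain ⟨z, hz⟩ := Finite.surjective_of_injective hinj ⟨ψ x, hx⟩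
    have h1 : ψ (z : G) = ψ x := congrArg Subtype.val hz
    rw [← ψ.injective h1]; exact z.2
  exact ⟨key1, fun x => ⟨hfwd x, hconv x⟩, fun x hx =>
    ⟨u * φ x * u⁻¹, U.mul_mem (U.mul_mem hu ((hφU x).1 hx)) (U.inv_mem hu), key3 x⟩⟩

end Cfsg.Agent.Lib.Helper1.ReeOut
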