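import Cfsg.Agent.Lib.Helper17.ReeOut.Defs

set_option autoImplicit false

/-!
# ReeOut (S2127), package [SEMI] (helper1)
-/

universe u

namespace Cfsg.Agent.Lib.Helper1.ReeOut

open Cfsg.Agent.Lib.Helper17.ReeOut

theorem pkgSemi : PkgSemi.{u} := by
  intro F _ _ f α hadd hinj hsemi
  have h0 : f 0 = 0 := by
    have := hadd 0 0
    simp at this
    exact this
  have hc : f 1 ≠ 0 := by
    intro h
    have : (1 : F) = 0 := hinj (h.trans h0.symm)
    exact one_ne_zero this
  have hα : ∀ ν : Fˣ, f (ν : F) = (α ν : F) * f 1 := by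
    intro ν
    have := hsemi ν 1
    simpa using this
  have hmul : ∀ x y : F, f (x * y) * f 1 = f x * f y := by
    intro x y
    by_cases hx : x = 0
    · subst hx; simp [h0]
    · have := hsemi (Units.mk0 x hx) y
      have h2 := hα (Units.mk0 x hx)
      simp only [Units.val_mk0] at this h2
      rw [this, h2]; ring
  let ψ : F →+* F :=
    { toFun := fun t => f t / f 1
      map_one' := div_self hc
      map_mul' := by
        intro x y
        show f (x * y) / f 1 = f x / f 1 * (f y / f 1)
        rw [div_mul_div_comm, ← hmul x y, mul_div_mul_right _ _ hc]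
      map_zero' := by show f 0 / f 1 = 0; rw [h0, zero_div]
      map_add' := by
        intro x y
        show f (x + y) / f 1 = f x / f 1 + f y / f 1
        rw [hadd, add_div] }
  have hψinj : Function.Injective ψ := ψ.injective
  have hbij : Function.Bijective ψ := ⟨hψinj, Finite.surjective_of_injective hψinj⟩
  refine ⟨Units.mk0 (f 1) hc, RingEquiv.ofBijective ψ hbij, ?_, ?_⟩
  · intro t
    show f t = f 1 * (f t / f 1)
    rw [mul_div_cancel₀ _ hc]
  · intro ν
    show (α ν : F) = f ν / f 1
    rw [hα ν, mul_div_cancel_right₀ _ hc]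

end Cfsg.Agent.Lib.Helper1.ReeOut
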